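import Groth.Agent.S3034
import Groth.Agent.Lib.FlatFactor.Orbit
import Groth.Agent.Lib.AffMono14.Hull
import Groth.Agent.Lib.GrpDeligne.Factor
import Groth.Agent.Lib.EtSite.FpqcDescent
import Groth.Agent.Lib.GrpSchField.Field
import Mathlib

/-!
# A quasi-compact homomorphism with affine kernel is affine
-/

universe u

open CategoryTheory CategoryTheory.Limits MonoidalCategory CartesianMonoidalCategory MonObj AlgebraicGeometry

set_option backward.isDefEq.respectTransparency false

noncomputable section

namespace GrothLib.AffHom13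

variable {k : Type u} [Field k] {P Q : Over (Spec (CommRingCat.of k))} [GrpObj P] [GrpObj Q]
  [LocallyOfFiniteType P.hom] [LocallyOfFiniteType Q.hom]

/-- A quasi-compact homomorphism of group schemes locally of finite type over a field with affine kernel is affine. -/
theorem isAffineHom_of_kernel (f : P ⟶ Q) [IsMonHom f] [QuasiCompact f.left] {N : Over (Spec (CommRingCat.of k))}
    (n : N ⟶ P) (hsq : IsPullback n (toUnit N) f η[Q]) [IsAffine N.left] : IsAffineHom f.left := by
  haveI : IsAffineHom N.hom := isAffineHom_of_isAffine N.hom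
  haveI : Flat N.hom := inferInstance
  -- the factorisation through the image
  obtain ⟨C, _, p, i, hp, hi, hpi, hpf, hps, hplfp, hii⟩ := Groth.Agent.S3034.result k P Q f inferInstance
  obtain ⟨Q', _, p', i', _, _, hpi', _, _, _, hi'm, _, _, sq⟩ :=
    GrothLib.FlatFactor.exists_hom_factor (Or.inl inferInstance) f n hsq
  haveI : Mono i.left := inferInstance
  haveI : Mono i := Over.mono_of_mono_left _
  haveI := hi'm
  have sqf : IsPullback ((P ◁ n) ≫ μ[P]) (fst P N) f f := by
    rw [← hpi']
    exact ⟨⟨by rw [← Category.assoc, sq.w, Category.assoc]⟩, ⟨Limits.PullbackCone.IsLimit.mk _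
      (fun s => sq.lift s.fst s.snd (by rw [← cancel_mono i', Category.assoc, Category.assoc]; exact s.condition))
      (fun s => sq.lift_fst _ _ _) (fun s => sq.lift_snd _ _ _)
      fun s m h₁ h₂ => sq.hom_ext (by rw [sq.lift_fst, h₁]) (by rw [sq.lift_snd, h₂])⟩⟩
  have sqp := GrothLib.FlatFactor.isPullback_cancel_mono i hpi hpi sqf
  haveI : IsAffineHom (fst P N).left := by
    have h : MorphismProperty.IsStableUnderBaseChange @IsAffineHom := inferInstance
    exact h.of_isPullback (IsPullback.of_hasPullback P.hom N.hom).flip ‹IsAffineHom N.hom›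
  haveI : QuasiCompact p.left := by
    haveI : QuasiCompact (p.left ≫ i.left) := by rw [← Over.comp_left, hpi]; infer_instance
    exact QuasiCompact.of_comp p.left i.left
  haveI : IsAffineHom p.left :=
    MorphismProperty.of_isPullback_of_descendsAlong (P := @IsAffineHom) (Q := GrothLib.EtSite.fpqcCov)
      (sqp.map (Over.forget _)).flip ⟨⟨hps, hpf⟩, ‹QuasiCompact p.left›⟩ ‹IsAffineHom (fst P N).left›
  rw [← hpi, Over.comp_left]
  infer_instance


/-- The kernel of a homomorphism as the fibre over the unit. -/
abbrev kerOver (f : P ⟶ Q) : Over (Spec (CommRingCat.of k)) := Over.mk (Limits.pullback.snd f.left η[Q].left)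

/-- A quasi-compact homomorphism whose fibre over the unit is affine is affine. -/
theorem isAffineHom_of_fibre (f : P ⟶ Q) [IsMonHom f] [QuasiCompact f.left] [IsAffine (kerOver f).left] :
    IsAffineHom f.left := by
  let N := kerOver f
  let n : N ⟶ P := Over.homMk (Limits.pullback.fst f.left η[Q].left) (by
    show _ = Limits.pullback.snd _ _
    rw [← Over.w f, Limits.pullback.condition_assoc, show η[Q].left ≫ Q.hom = 𝟙 _ from Over.w η[Q]]
    exact Category.comp_id _)
  have hsq : IsPullback n (toUnit N) f η[Q] := by
    have h : IsPullback n.left (toUnit N).left f.left η[Q].left := by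
      have e : (toUnit N).left = Limits.pullback.snd f.left η[Q].left :=
        (Category.comp_id _).symm.trans (Over.w (toUnit N))
      rw [e]
      exact IsPullback.of_hasPullback _ _
    exact IsPullback.of_map (Over.forget _) (Over.OverMorphism.ext h.w) h
  exact isAffineHom_of_kernel f n hsq

/-- A homomorphism with quasi-affine underlying morphism is affine. -/
theorem isAffineHom_of_isQuasiAffine (f : P ⟶ Q) [IsMonHom f] [QuasiCompact f.left]
    (hf : ∀ V : Q.left.Opens, IsAffineOpen V → Scheme.IsQuasiAffine (f.left ⁻¹ᵁ V : Scheme.{u})) :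
    IsAffineHom f.left := by
  haveI : IsSeparated Q.hom := GrothLib.GrpSchField.isSeparated Q
  let N : Over (Spec (CommRingCat.of k)) := Over.mk (Limits.pullback.snd f.left η[Q].left)
  let n : N ⟶ P := Over.homMk (Limits.pullback.fst f.left η[Q].left) (by
    show _ = Limits.pullback.snd _ _
    rw [← Over.w f, Limits.pullback.condition_assoc, show η[Q].left ≫ Q.hom = 𝟙 _ from Over.w η[Q]]
    exact Category.comp_id _)
  have hsq : IsPullback n (toUnit N) f η[Q] := by
    have h : IsPullback n.left (toUnit N).left f.left η[Q].left := by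
      have e : (toUnit N).left = Limits.pullback.snd f.left η[Q].left :=
        (Category.comp_id _).symm.trans (Over.w (toUnit N))
      rw [e]
      exact IsPullback.of_hasPullback _ _
    exact IsPullback.of_map (Over.forget _) (Over.OverMorphism.ext h.w) h
  obtain ⟨hNgrp, hn⟩ := GrothLib.GrpDeligne.exists_grpObj_kernel f n hsq
  haveI : IsClosedImmersion η[Q].left := by
    have h : η[Q].left ≫ Q.hom = 𝟙 _ := Over.w η[Q]
    exact isClosedImmersion_of_comp_eq_id (Y := Spec (CommRingCat.of k)) _ _ h
  haveI : IsClosedImmersion n.left :=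
    inferInstanceAs (IsClosedImmersion (Limits.pullback.fst f.left η[Q].left))
  haveI : QuasiCompact N.hom := inferInstanceAs (QuasiCompact (Limits.pullback.snd f.left η[Q].left))
  haveI : CompactSpace ↥N.left := QuasiCompact.compactSpace_of_compactSpace N.hom
  -- the kernel is quasi-affine, hence affine
  haveI : IsAffine N.left := by
    obtain ⟨_, ⟨V, hV, rfl⟩, hxV, -⟩ := Q.left.isBasis_affineOpens.exists_subset_of_mem_open
      (Set.mem_univ (η[Q].left.base (IsLocalRing.closedPoint k))) isOpen_univ
    haveI := hf V hV
    have hr : Set.range n.left.base ⊆ Set.range (f.left ⁻¹ᵁ V).ι.base := by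
      rintro _ ⟨x, rfl⟩
      rw [Scheme.Opens.range_ι]
      have hx : n.left ≫ f.left = Limits.pullback.snd f.left η[Q].left ≫ η[Q].left :=
        Limits.pullback.condition
      show f.left.base (n.left.base x) ∈ V
      rw [← Scheme.Hom.comp_apply, hx, Scheme.Hom.comp_apply]
      haveI : Subsingleton ↥(Spec (CommRingCat.of k)) := inferInstanceAs (Subsingleton (PrimeSpectrum k))
      exact (congrArg (fun y => η[Q].left.base y ∈ V) (Subsingleton.elim _ (IsLocalRing.closedPoint k))).mpr hxV
    let g := IsOpenImmersion.lift (f.left ⁻¹ᵁ V).ι n.left hr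
    haveI : IsImmersion (g ≫ (f.left ⁻¹ᵁ V).ι) := by rw [IsOpenImmersion.lift_fac]; infer_instance
    haveI : IsImmersion g := IsImmersion.of_comp g (f.left ⁻¹ᵁ V).ι
    haveI : N.left.IsQuasiAffine := Scheme.IsQuasiAffine.of_isImmersion g
    exact GrothLib.AffMono14.isAffine_of_isQuasiAffine N
  exact isAffineHom_of_kernel f n hsq

end GrothLib.AffHom13
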